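import Groth.Agent.RedSub.H640.PinCellScale
import Groth.Agent.Sga3B.PinCover
import Groth.Agent.Sga3B.AffYoneda
import Mathlib.AlgebraicGeometry.Morphisms.Flat

/-!
# Homomorphisms out of a pinned reductive group are determined on `T` and the `U_{±a}`, `a` simple
-/

set_option autoImplicit false
universe u

open CategoryTheory MonoidalCategory CartesianMonoidalCategory MonObj GrpObj AlgebraicGeometry

namespace Groth.Agent.RedSub.H640.HomExt

open Groth.Agent.Sga3B Groth.Agent.Sga3B.Cell Groth.Agent.Sga3B.PtDescent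
open Groth.Agent.Sga3B.PinMod Groth.Agent.Sga3B.PinFinal Groth.Agent.Sga3B.DSPts
open Groth.Agent.Sga3B.GaPts Groth.Agent.Sga3B.PinCover

section abstract

variable {idx M : Type} [Fintype idx] [AddCommGroup M] [Module.Free ℤ M]
    [Module.Finite ℤ M] {P : RootPairing idx ℤ M (Module.Dual ℤ M)} {b : P.Base}
    {R A : Type u} [CommRing R] [CommRing A] [Algebra R A] [PtGrp R A]

/-- A family of subgroups of `Pt R A B` containing the torus and the root groups of the simple roots
and their negatives contains the big cell. -/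
theorem cell_mem (E : PinCell P b R A)
    (K : ∀ (B : Type u) [CommRing B] [Algebra R B], Subgroup (Pt R A B))
    (hi : ∀ (B : Type u) [CommRing B] [Algebra R B] (t : TPt M B), E.i B t ∈ K B)
    (hu : ∀ a ∈ b.support, ∀ (B : Type u) [CommRing B] [Algebra R B] (x : B),
      E.uu a B x ∈ K B ∧ E.uu (P.reflectionPerm a a) B x ∈ K B)
    (B : Type u) [CommRing B] [Algebra R B] (x : idx → B) (t : TPt M B) : E.cell x t ∈ K B := by
  have : P.IsReduced := PinComb.isReduced b
  have hneg : ∀ j, P.root (P.reflectionPerm j j) = - P.root j := fun j => by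
    rw [RootPairing.root_reflectionPerm, RootPairing.reflection_apply_self]
  have hfix : ∀ c : idx, (∀ (B : Type u) [CommRing B] [Algebra R B] (x : B),
      E.uu c B x ∈ K B) ∧ (∀ (B : Type u) [CommRing B] [Algebra R B] (x : B),
      E.uu (P.reflectionPerm c c) B x ∈ K B) := by
    intro c
    refine b.induction_reflect c (p := fun c => (∀ (B : Type u) [CommRing B] [Algebra R B] (x : B),
      E.uu c B x ∈ K B) ∧ (∀ (B : Type u) [CommRing B] [Algebra R B] (x : B),
      E.uu (P.reflectionPerm c c) B x ∈ K B)) ?_ ?_ ?_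
    · intro i hi
      refine ⟨hi.2, ?_⟩
      have h1 : P.reflectionPerm (P.reflectionPerm i i) (P.reflectionPerm i i) = i := by
        apply P.root.injective
        rw [hneg, hneg, neg_neg]
      rw [h1]
      exact fun B _ _ x => hi.1 B x
    · intro i hi'
      exact ⟨fun B _ _ x => (hu i hi' B x).1, fun B _ _ x => (hu i hi' B x).2⟩
    · intro i j hp hj
      have hn : ∀ (B : Type u) [CommRing B] [Algebra R B], E.nn j B ∈ K B := by
        intro B _ _
        exact (K B).mul_mem ((K B).mul_mem (hu j hj B 1).1 (hu j hj B (-1)).2) (hu j hj B 1).1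
      have hstep : ∀ c : idx, (∀ (B : Type u) [CommRing B] [Algebra R B] (x : B),
          E.uu c B x ∈ K B) → ∀ (B : Type u) [CommRing B] [Algebra R B] (x : B),
          E.uu (P.reflectionPerm j c) B x ∈ K B := by
        intro c hc B _ _ x
        obtain ⟨r, hr⟩ := E.nn_conj hj c
        have h1 := hr (algebraMap R B ((r⁻¹ : Rˣ) : R) * x)
        rw [← _root_.mul_assoc, ← map_mul, Units.mul_inv, map_one, _root_.one_mul] at h1
        rw [← h1]
        exact (K B).mul_mem ((K B).mul_mem (hn B) (hc B _)) ((K B).inv_mem (hn B))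
      refine ⟨hstep i hp.1, ?_⟩
      have h1 : P.reflectionPerm (P.reflectionPerm j i) (P.reflectionPerm j i) =
          P.reflectionPerm j (P.reflectionPerm i i) := by
        apply P.root.injective
        rw [hneg, RootPairing.root_reflectionPerm, RootPairing.root_reflectionPerm, hneg, map_neg]
      rw [h1]
      exact fun B _ _ x => hstep _ hp.2 B x
  have h : ∀ L : List idx, (L.map (fun a => E.uu a B (x a))).prod ∈ K B := by
    intro L
    induction L with
    | nil => exact (K B).one_mem
    | cons a L ih =>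
      simp only [List.map_cons, List.prod_cons]
      exact (K B).mul_mem ((hfix a).1 B _) ih
  exact (K B).mul_mem (h _) (hi B t)

end abstract

variable {S : Scheme.{u}} {G H : Over S} [GrpObj G] [GrpObj H]

/-- The subgroup of `B`-points of a chart on which two homomorphisms agree. -/
noncomputable def eqSub {R : Type u} [CommRing R] {s : Spec (CommRingCat.of R) ⟶ S} (c : Chart G s)
    (f g : G ⟶ H) [IsMonHom f] [IsMonHom g] (B : Type u) [CommRing B] [Algebra R B] :
    Subgroup (Pt R c.A B) where
  carrier := {p | c.pts B p ≫ f = c.pts B p ≫ g}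
  mul_mem' {p q} hp hq := by
    simp only [Set.mem_ofPred_eq] at hp hq ⊢
    rw [map_mul, MonObj.mul_comp, MonObj.mul_comp, hp, hq]
  one_mem' := by
    simp only [Set.mem_ofPred_eq]
    rw [map_one, MonObj.one_comp, MonObj.one_comp]
  inv_mem' {p} hp := by
    simp only [Set.mem_ofPred_eq] at hp ⊢
    rw [map_inv, GrpObj.inv_comp, GrpObj.inv_comp, hp]

lemma mem_eqSub {R : Type u} [CommRing R] {s : Spec (CommRingCat.of R) ⟶ S} (c : Chart G s)
    (f g : G ⟶ H) [IsMonHom f] [IsMonHom g] (B : Type u) [CommRing B] [Algebra R B]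
    (p : Pt R c.A B) : p ∈ eqSub c f g B ↔ c.pts B p ≫ f = c.pts B p ≫ g := Iff.rfl

/-- **Homomorphisms out of a pinned group** agreeing on the torus and on the root groups of the simple
roots and of their negatives are equal. -/
theorem hom_eq (D : Red.Pinning G) (f g : G ⟶ H) [IsMonHom f] [IsMonHom g] (hT : D.i ≫ f = D.i ≫ g)
    (hU : ∀ a : D.idx, a ∈ D.base.support → D.u a ≫ f = D.u a ≫ g ∧
      D.u (D.P.reflectionPerm a a) ≫ f = D.u (D.P.reflectionPerm a a) ≫ g) :
    f = g := by
  have key : ∀ (R : Type u) [CommRing R] (s : Spec (CommRingCat.of R) ⟶ S) (B : Type u) [CommRing B]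
      [Algebra R B] (y : tB s B ⟶ G), y ≫ f = y ≫ g := by
    intro R _ s B _ _ y
    have : IsAffineHom G.hom := D.reductive.1
    obtain ⟨c⟩ := exists_chart G s
    obtain ⟨E, ε, -, hEi, hEu⟩ := PinCellScale.exists_pinCell_chart D c
    have hcell := cell_mem E (fun B _ _ => eqSub c f g B)
      (fun B _ _ t => by
        rw [mem_eqSub, hEi, jOf]
        simp only [Category.assoc]
        rw [hT])
      (fun a ha B _ _ x => by
        rw [mem_eqSub, mem_eqSub, hEu, hEu, Category.assoc, Category.assoc, Category.assoc,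
          Category.assoc, (hU a ha).1, (hU a ha).2]
        exact ⟨rfl, rfl⟩)
    obtain ⟨T', _, _, _, _, _, x, t, x', t', h⟩ := exists_cover E
    have h1 : Pt.mk (IsScalarTower.toAlgHom R c.A T') ∈ eqSub c f g T' := by
      rw [h]
      exact (eqSub c f g T').mul_mem (hcell T' x t) (hcell T' x' t')
    have h2 : c.pts T' (Pt.mk (IsScalarTower.toAlgHom R c.A T')) =
        tMap s (IsScalarTower.toAlgHom R c.A T') ≫ c.pts c.A (univ R c.A) := by
      rw [c.pts_nat]
      rfl
    rw [mem_eqSub, h2, Category.assoc, Category.assoc] at h1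
    have hepi : Epi (tMap s (IsScalarTower.toAlgHom R c.A T')).left := by
      have hfl : Flat (tMap s (IsScalarTower.toAlgHom R c.A T')).left := by
        rw [tMap_left, Flat.SpecMap_iff]
        exact RingHom.flat_algebraMap_iff.mpr (inferInstance : Module.Flat c.A T')
      have hsur : Surjective (tMap s (IsScalarTower.toAlgHom R c.A T')).left := by
        rw [tMap_left]
        refine ⟨?_⟩
        exact PrimeSpectrum.comap_surjective_of_faithfullyFlat (A := c.A) (B := T')
      exact Flat.epi_of_flat_of_surjective _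
    have h3 : c.pts c.A (univ R c.A) ≫ f = c.pts c.A (univ R c.A) ≫ g := by
      ext1
      rw [← cancel_epi (tMap s (IsScalarTower.toAlgHom R c.A T')).left]
      exact congrArg (fun k => k.left) h1
    obtain ⟨p, rfl⟩ := (c.pts B).surjective y
    have h4 : c.pts B p = tMap s p.hom ≫ c.pts c.A (univ R c.A) := by
      rw [c.pts_nat, map_univ]
    rw [h4, Category.assoc, Category.assoc, h3]
  apply AffYoneda.hom_ext
  intro B σ y
  have hσ : Spec.map (𝟙 B) ≫ σ = σ := by rw [Spec.map_id, Category.id_comp]
  have gen : ∀ (ρ : B ⟶ B) (τ : Spec B ⟶ S) (_ : Spec.map ρ ≫ σ = τ) (y : Over.mk τ ⟶ G),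
      y ≫ f = y ≫ g := by
    intro ρ τ hτ y
    subst hτ
    let _ : Algebra B B := ρ.hom.toAlgebra
    exact @key B _ σ B _ ρ.hom.toAlgebra y
  exact gen (𝟙 B) σ hσ y

end Groth.Agent.RedSub.H640.HomExt
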